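import Mathlib
import Cfsg.Agent.Lib.PGroup.ElemAbelian
import Cfsg.Agent.Lib.PLemmas.NormalSeries
import Cfsg.Agent.Lib.PLemmas.AlperinExponent
import Cfsg.Agent.Lib.PLemmas.PowerFormula
/-!
A `p`-group, `p` odd, with an elementary abelian subgroup of order `p ^ 4` has a normal one.

If a maximal normal elementary abelian subgroup `U` has order `p ^ 3` or less, then every
elementary abelian `E` of order `p ^ 4` meets `U` in the same subgroup of order `p ^ 2`,
and two such subgroups normalising each other are equal; so `E` is normal.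
-/

namespace Cfsg.Agent.Lib.PLemmas

open Subgroup
open scoped commutatorElement

variable {G : Type*} [Group G] {p : ℕ} [Fact p.Prime]

theorem sup_zpowers_eq_of_card [Finite G] {A B : Subgroup G} (hAB : A ≤ B)
    (hc : Nat.card B = p * Nat.card A) {u : G} (hu : u ∈ B) (huA : u ∉ A) :
    A ⊔ zpowers u = B := by
  have hle : A ⊔ zpowers u ≤ B := sup_le hAB (zpowers_le.2 hu)
  obtain ⟨c, hc'⟩ := card_dvd_of_le (le_sup_left : A ≤ A ⊔ zpowers u)
  have hd := card_dvd_of_le hle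
  rw [hc', hc, Nat.mul_comm p, Nat.mul_dvd_mul_iff_left Nat.card_pos] at hd
  rcases (Nat.dvd_prime Fact.out).1 hd with rfl | rfl
  · have h := eq_of_le_of_card_ge (le_sup_left : A ≤ A ⊔ zpowers u) (by rw [hc', mul_one])
    exact absurd (h.symm ▸ mem_sup_right (mem_zpowers u)) huA
  · exact eq_of_le_of_card_ge hle (by rw [hc', hc, Nat.mul_comm])

/-- Counting through the homomorphism `f ↦ [f, u]`. -/
theorem card_le_of_commutator_mem [Finite G] {F T M : Subgroup G} {u : G}
    (hT : ∀ f ∈ F, ⁅f, u⁆ ∈ T) (hFT : ∀ f ∈ F, ∀ t ∈ T, f * t = t * f)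
    (hTT : ∀ s ∈ T, ∀ t ∈ T, s * t = t * s)
    (hM : ∀ f ∈ F, ⁅f, u⁆ = 1 → f ∈ M) :
    Nat.card F ≤ Nat.card (F ⊓ M : Subgroup G) * Nat.card T := by
  let φ : F →* T := MonoidHom.mk' (fun f => ⟨⁅(f : G), u⁆, hT f f.2⟩) fun a b => by
    refine Subtype.ext ?_
    show ⁅(a : G) * b, u⁆ = ⁅(a : G), u⁆ * ⁅(b : G), u⁆
    rw [hTT _ (hT a a.2) _ (hT b b.2)]
    have h := hFT a a.2 _ (hT b b.2)
    calc ⁅(a : G) * b, u⁆ = (a : G) * ⁅(b : G), u⁆ * (u * (a : G)⁻¹ * u⁻¹) := by
          simp only [commutatorElement_def]; group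
      _ = ⁅(b : G), u⁆ * ((a : G) * u * (a : G)⁻¹ * u⁻¹) := by rw [h]; group
      _ = _ := by rw [commutatorElement_def (a : G)]
  have hker : Nat.card φ.ker ≤ Nat.card (F ⊓ M : Subgroup G) :=
    Nat.card_le_card_of_injective
      (fun x : φ.ker => (⟨((x : F) : G), mem_inf.2 ⟨(x : F).2, hM _ (x : F).2
        (congrArg Subtype.val (MonoidHom.mem_ker.1 x.2))⟩⟩ : (F ⊓ M : Subgroup G)))
      fun x y h => Subtype.ext (Subtype.ext (congrArg Subtype.val h :))
  rw [← φ.ker.card_mul_index, index_ker]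
  exact Nat.mul_le_mul hker (card_le_card_group _)

/-- Elements centralising `A` and `u` centralise `A ⊔ ⟨u⟩`. -/
theorem mem_centralizer_of_sup {A B : Subgroup G} {u x : G} (hB : A ⊔ zpowers u = B)
    (hA : ∀ a ∈ A, x * a = a * x) (hu : x * u = u * x) : x ∈ centralizer (B : Set G) := by
  have h : B ≤ centralizer ({x} : Set G) := hB ▸ sup_le
    (fun a ha => mem_centralizer_singleton_iff.2 (hA a ha).symm)
    (zpowers_le.2 (mem_centralizer_singleton_iff.2 hu.symm))
  exact mem_centralizer_iff.2 fun b hb => mem_centralizer_singleton_iff.1 (h hb)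

/-- An elementary abelian subgroup of order `p ^ 4` meets a self-centralising (among elements of
order `p`) normal `U` of order `p ^ 3` in the given normal subgroup of order `p ^ 2`. -/
theorem inf_eq_of_card_four [Finite G] {U U2 U1 E : Subgroup G}
    (hU : Cfsg.IsElementaryAbelian p U) (hUn : U.Normal)
    (hU3 : Nat.card U = p ^ 3) (hU2 : Nat.card U2 = p ^ 2) (hU1 : Nat.card U1 = p)
    (h21 : U1 ≤ U2) (h32 : U2 ≤ U) (hc1 : ∀ g : G, ∀ a ∈ U1, g * a = a * g)
    (hc2 : ∀ g : G, ∀ a ∈ U2, ⁅g, a⁆ ∈ U1) (hc3 : ∀ g : G, ∀ a ∈ U, ⁅g, a⁆ ∈ U2)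
    (hself : ∀ x ∈ centralizer (U : Set G), x ^ p = 1 → x ∈ U)
    (hE : Cfsg.IsElementaryAbelian p E) (hE4 : Nat.card E = p ^ 4) :
    E ⊓ U = U2 ∧ ∀ u ∈ U, u ∉ U2 → ∀ t ∈ U2, ∃ e ∈ E, ⁅e, u⁆ = t := by
  classical
  have hp : p.Prime := Fact.out
  have hUc : ∀ a ∈ U, ∀ b ∈ U, a * b = b * a := fun a ha b hb => ElemAbelian.comm hU ha hb
  obtain ⟨v, hvU2, hvU1⟩ : ∃ v ∈ U2, v ∉ U1 := by
    by_contra! h
    have := card_le_of_le (h : U2 ≤ U1)
    rw [hU2, hU1] at this
    nlinarith [hp.two_le]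
  have hsup2 : U1 ⊔ zpowers v = U2 :=
    sup_zpowers_eq_of_card (p := p) h21 (by rw [hU2, hU1, sq]) hvU2 hvU1
  obtain ⟨u0, hu0, hu02⟩ : ∃ u ∈ U, u ∉ U2 := by
    by_contra! h
    have := card_le_of_le (h : U ≤ U2)
    rw [hU3, hU2] at this
    exact absurd this (not_le_of_gt (Nat.pow_lt_pow_right hp.one_lt (by norm_num)))
  have hsup3 : ∀ u ∈ U, u ∉ U2 → U2 ⊔ zpowers u = U := fun u hu hu2 =>
    sup_zpowers_eq_of_card (p := p) h32 (by rw [hU3, hU2]; ring) hu hu2
  set W := E ⊓ U with hW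
  set E₀ := E ⊓ centralizer (U2 : Set G) with hE₀
  have hWE₀ : ∀ x ∈ E₀, ∀ t ∈ U2, x * t = t * x := fun x hx t ht =>
    (mem_centralizer_iff.1 (mem_inf.1 hx).2 t ht).symm
  -- first layer
  have hE01 : Nat.card E ≤ Nat.card E₀ * p := by
    have := card_le_of_commutator_mem (F := E) (T := U1) (M := centralizer (U2 : Set G)) (u := v)
      (fun f _ => hc2 f v hvU2) (fun f _ t ht => hc1 f t ht) (fun s _ t ht => hc1 s t ht)
      (fun f _ hf => mem_centralizer_of_sup hsup2 (fun a ha => hc1 f a ha)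
        (commutatorElement_eq_one_iff_mul_comm.1 hf))
    rwa [hU1] at this
  -- second layer
  have hfix : ∀ u ∈ U, ∀ e ∈ E₀, ⁅e, u⁆ ∈ U2 ⊓ centralizer (E : Set G) := by
    intro u hu e he
    refine mem_inf.2 ⟨hc3 e u hu, mem_centralizer_iff.2 fun f hf => ?_⟩
    set t := ⁅f, u⁆ with ht
    have ht2 : t ∈ U2 := hc3 f u hu
    have htu : t * u = f * u * f⁻¹ := by rw [ht, commutatorElement_def, inv_mul_cancel_right]
    have hfe : f * e = e * f := ElemAbelian.comm hE hf (mem_inf.1 he).1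
    have he' : Commute e t := hWE₀ e he t ht2
    have hs : ⁅e, u⁆ ∈ U := h32 (hc3 e u hu)
    rw [← mul_inv_eq_iff_eq_mul]
    calc f * ⁅e, u⁆ * f⁻¹ = (f * e) * u * (f * e)⁻¹ * (f * u * f⁻¹)⁻¹ := by
          rw [commutatorElement_def]; group
      _ = e * (f * u * f⁻¹) * e⁻¹ * (f * u * f⁻¹)⁻¹ := by rw [hfe]; group
      _ = (e * t) * u * e⁻¹ * (t * u)⁻¹ := by rw [← htu]; group
      _ = t * ⁅e, u⁆ * t⁻¹ := by rw [he'.eq, commutatorElement_def]; group
      _ = ⁅e, u⁆ := by rw [hUc t (h32 ht2) _ hs, mul_inv_cancel_right]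
  have hker : ∀ u ∈ U, u ∉ U2 → ∀ f ∈ E₀, ⁅f, u⁆ = 1 → f ∈ W := by
    intro u hu hu2 f hf hf1
    refine mem_inf.2 ⟨(mem_inf.1 hf).1, hself f ?_ (ElemAbelian.pow_eq_one hE (mem_inf.1 hf).1)⟩
    exact mem_centralizer_of_sup (hsup3 u hu hu2) (hWE₀ f hf)
      (commutatorElement_eq_one_iff_mul_comm.1 hf1)
  have hE₀W : Nat.card E₀ ≤ Nat.card W * Nat.card (U2 ⊓ centralizer (E : Set G) : Subgroup G) := by
    refine (card_le_of_commutator_mem (F := E₀) (T := U2 ⊓ centralizer (E : Set G))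
      (M := W) (u := u0) (hfix u0 hu0) (fun f hf t ht => hWE₀ f hf t (mem_inf.1 ht).1)
      (fun s hs t ht => hUc s (h32 (mem_inf.1 hs).1) t (h32 (mem_inf.1 ht).1))
      (hker u0 hu0 hu02)).trans ?_
    exact Nat.mul_le_mul_right _ (card_le_of_le inf_le_right)
  have hW2 : p ^ 2 ≤ Nat.card W := by
    by_cases hc : U2 ≤ centralizer (E : Set G)
    · have heq : E₀ = E := inf_eq_left.2 (le_centralizer_iff.1 hc)
      rw [heq, inf_eq_left.2 hc, hU2, hE4] at hE₀W
      exact Nat.le_of_mul_le_mul_right (by rw [← pow_add]; exact hE₀W) (pow_pos hp.pos 2)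
    · have hlt : Nat.card (U2 ⊓ centralizer (E : Set G) : Subgroup G) ≤ p := by
        obtain ⟨j, hj, hje⟩ := (Nat.dvd_prime_pow hp).1
          (hU2 ▸ card_dvd_of_le (inf_le_left : U2 ⊓ centralizer (E : Set G) ≤ U2))
        rw [hje]
        have : j ≠ 2 := by
          rintro rfl
          exact hc (inf_eq_left.1 (eq_of_le_of_card_ge inf_le_left (by rw [hje, hU2])))
        calc p ^ j ≤ p ^ 1 := Nat.pow_le_pow_right hp.pos (by omega)
          _ = p := pow_one p
      have h1 : p ^ 4 ≤ Nat.card W * (p * p) := by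
        rw [← hE4, ← mul_assoc]
        exact hE01.trans (Nat.mul_le_mul_right p (hE₀W.trans (Nat.mul_le_mul_left _ hlt)))
      exact Nat.le_of_mul_le_mul_right (by rw [show p ^ 2 * (p * p) = p ^ 4 by ring]; exact h1) (mul_pos hp.pos hp.pos)
  have hWU : ¬ U ≤ E := by
    intro h
    have hle : E ≤ U := fun e he => hself e (mem_centralizer_iff.2 fun a ha =>
      ElemAbelian.comm hE (h ha) he) (ElemAbelian.pow_eq_one hE he)
    have := card_le_of_le hle
    rw [hE4, hU3] at this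
    exact absurd this (not_le_of_gt (Nat.pow_lt_pow_right hp.one_lt (by norm_num)))
  have hWcard : Nat.card W = p ^ 2 := by
    obtain ⟨j, hj, hje⟩ := (Nat.dvd_prime_pow hp).1
      (hU3 ▸ card_dvd_of_le (inf_le_right : W ≤ U))
    rw [hje] at hW2 ⊢
    have h1 := (Nat.pow_le_pow_iff_right hp.one_lt).1 hW2
    have h2 : j ≠ 3 := by
      rintro rfl
      exact hWU ((eq_of_le_of_card_ge (inf_le_right : W ≤ U) (by rw [hje, hU3])).ge.trans
        inf_le_left)
    rw [show j = 2 by omega]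
  have hWU2 : W = U2 := by
    refine eq_of_le_of_card_ge ?_ (by rw [hWcard, hU2])
    intro w hw
    by_contra hw2
    have hle : E₀ ≤ W := fun f hf => hker w (mem_inf.1 hw).2 hw2 f hf
      (commutatorElement_eq_one_iff_mul_comm.2
        (ElemAbelian.comm hE (mem_inf.1 hf).1 (mem_inf.1 hw).1))
    have h1 := hE01.trans (Nat.mul_le_mul_right p (card_le_of_le hle))
    rw [hWcard, hE4, ← pow_succ] at h1
    exact absurd h1 (not_le_of_gt (Nat.pow_lt_pow_right hp.one_lt (by norm_num)))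
  refine ⟨hWU2, fun u hu hu2 => ?_⟩
  have hEE₀ : E₀ = E := inf_eq_left.2 fun e he => mem_centralizer_iff.2 fun a ha =>
    ElemAbelian.comm hE (mem_inf.1 (hWU2.ge ha)).1 he
  have hcomm : ∀ e ∈ E, ∀ t ∈ U2, e * t = t * e := fun e he => hWE₀ e (hEE₀.ge he)
  let φ : E →* U2 := MonoidHom.mk' (fun f => ⟨⁅(f : G), u⁆, hc3 f u hu⟩) fun a b => by
    refine Subtype.ext ?_
    show ⁅(a : G) * b, u⁆ = ⁅(a : G), u⁆ * ⁅(b : G), u⁆
    rw [hUc _ (h32 (hc3 a u hu)) _ (h32 (hc3 b u hu))]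
    have h := hcomm a a.2 _ (hc3 b u hu)
    calc ⁅(a : G) * b, u⁆ = (a : G) * ⁅(b : G), u⁆ * (u * (a : G)⁻¹ * u⁻¹) := by
          simp only [commutatorElement_def]; group
      _ = ⁅(b : G), u⁆ * ((a : G) * u * (a : G)⁻¹ * u⁻¹) := by rw [h]; group
      _ = _ := by rw [commutatorElement_def (a : G)]
  have hsurj : φ.range = ⊤ := by
    refine eq_top_of_card_eq _ (le_antisymm (card_le_card_group _) ?_)
    have h1 : Nat.card φ.ker ≤ Nat.card W := Nat.card_le_card_of_injective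
      (fun x : φ.ker => (⟨((x : E) : G), hker u hu hu2 _ (hEE₀.ge (x : E).2)
        (congrArg Subtype.val (MonoidHom.mem_ker.1 x.2))⟩ : W))
      fun x y h => Subtype.ext (Subtype.ext (congrArg Subtype.val h :))
    have h2 := φ.ker.card_mul_index
    rw [index_ker, hE4] at h2
    have h3 := h2.symm.le.trans (Nat.mul_le_mul_right _ h1)
    rw [hWcard, show p ^ 4 = p ^ 2 * p ^ 2 by ring] at h3
    rw [hU2]
    exact Nat.le_of_mul_le_mul_left h3 (pow_pos hp.pos 2)
  intro t ht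
  have ht' : (⟨t, ht⟩ : U2) ∈ φ.range := hsurj ▸ mem_top _
  obtain ⟨e, he⟩ := ht'
  exact ⟨e, e.2, congrArg Subtype.val he⟩

/-- Two elementary abelian subgroups of order `p ^ 4` normalising each other are equal. -/
theorem eq_of_card_four [Finite G] (hp2 : p ≠ 2) {U U2 U1 E F : Subgroup G}
    (hU : Cfsg.IsElementaryAbelian p U) (hUn : U.Normal)
    (hU3 : Nat.card U = p ^ 3) (hU2 : Nat.card U2 = p ^ 2) (hU1 : Nat.card U1 = p)
    (h21 : U1 ≤ U2) (h32 : U2 ≤ U) (hc1 : ∀ g : G, ∀ a ∈ U1, g * a = a * g)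
    (hc2 : ∀ g : G, ∀ a ∈ U2, ⁅g, a⁆ ∈ U1) (hc3 : ∀ g : G, ∀ a ∈ U, ⁅g, a⁆ ∈ U2)
    (hself : ∀ x ∈ centralizer (U : Set G), x ^ p = 1 → x ∈ U)
    (hE : Cfsg.IsElementaryAbelian p E) (hE4 : Nat.card E = p ^ 4)
    (hF : Cfsg.IsElementaryAbelian p F) (hF4 : Nat.card F = p ^ 4)
    (hFE : F ≤ normalizer (E : Set G)) (hEF : E ≤ normalizer (F : Set G)) : F = E := by
  classical
  have hp : p.Prime := Fact.out
  obtain ⟨hEU, hsurj⟩ := inf_eq_of_card_four hU hUn hU3 hU2 hU1 h21 h32 hc1 hc2 hc3 hself hE hE4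
  obtain ⟨hFU, -⟩ := inf_eq_of_card_four hU hUn hU3 hU2 hU1 h21 h32 hc1 hc2 hc3 hself hF hF4
  obtain ⟨u, hu, hu2⟩ : ∃ u ∈ U, u ∉ U2 := by
    by_contra! h
    have := card_le_of_le (h : U ≤ U2)
    rw [hU3, hU2] at this
    exact absurd this (not_le_of_gt (Nat.pow_lt_pow_right hp.one_lt (by norm_num)))
  have hsup : U2 ⊔ zpowers u = U :=
    sup_zpowers_eq_of_card (p := p) h32 (by rw [hU3, hU2]; ring) hu hu2
  have hdec : ∀ x ∈ F, ∃ e ∈ E, e⁻¹ * x ∈ U := by
    intro x hx
    obtain ⟨e, he, hexu⟩ := hsurj u hu hu2 _ (hc3 x u hu)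
    refine ⟨e, he, hself _ ?_ ?_⟩
    · refine mem_centralizer_of_sup hsup (fun a ha => ?_) ?_
      · have hea : Commute e⁻¹ a :=
          ElemAbelian.comm hE (inv_mem he) (mem_inf.1 (hEU.ge ha)).1
        have hxa : Commute x a := ElemAbelian.comm hF hx (mem_inf.1 (hFU.ge ha)).1
        exact (hea.mul_left hxa).eq
      · have h : e * u * e⁻¹ = x * u * x⁻¹ := by
          simp only [commutatorElement_def] at hexu
          exact mul_right_cancel hexu
        calc e⁻¹ * x * u = e⁻¹ * (x * u * x⁻¹) * x := by group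
          _ = u * (e⁻¹ * x) := by rw [← h]; group
    · have hd1 : ⁅e⁻¹, x⁆ ∈ E := by
        rw [commutatorElement_def, mul_assoc, mul_assoc]
        refine mul_mem (inv_mem he) ?_
        rw [← mul_assoc, inv_inv]
        exact (mem_normalizer_iff.1 (hFE hx) e).1 he
      have hd2 : ⁅e⁻¹, x⁆ ∈ F := by
        rw [commutatorElement_def]
        exact mul_mem ((mem_normalizer_iff.1 (hEF (inv_mem he)) x).1 hx) (inv_mem hx)
      have h1 := pow_mul_eq_of_class_three (x := e⁻¹) (y := x) (c := ⁅e⁻¹, x⁆) (u := 1)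
      have h := mul_pow_of_class_three (x := e⁻¹) (y := x) (c := ⁅e⁻¹, x⁆) (u := 1) (v := 1)
        (by rw [commutatorElement_def]; group)
        (by rw [one_mul]; exact ElemAbelian.comm hE (inv_mem he) hd1)
        (by rw [one_mul]; exact ElemAbelian.comm hF hx hd2) (one_mem _) (one_mem _) p
      obtain ⟨m, hm⟩ := prime_dvd_choose_succ_two hp hp2
      rw [h, hm, pow_mul, ElemAbelian.pow_eq_one hE hd1, ElemAbelian.pow_eq_one hF hx,
        ElemAbelian.pow_eq_one hE (inv_mem he)]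
      simp
  set K := E ⊔ U with hK
  have hFK : F ≤ K := fun x hx => by
    obtain ⟨e, he, hc⟩ := hdec x hx
    have := mul_mem (mem_sup_left he : e ∈ K) (mem_sup_right hc)
    rwa [mul_inv_cancel_left] at this
  -- `E ⊓ F` is bigger than `U2`
  obtain ⟨f, hfE, hfF, hf2⟩ : ∃ f, f ∈ E ∧ f ∈ F ∧ f ∉ U2 := by
    by_contra! h
    have hUE : U.relIndex E = p ^ 2 := by
      have := relIndex_mul_relIndex ⊥ (U ⊓ E) E bot_le inf_le_right
      rw [relIndex_bot_left, relIndex_bot_left, inf_relIndex_right, inf_comm, hEU, hU2, hE4,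
        show p ^ 4 = p ^ 2 * p ^ 2 by ring] at this
      exact Nat.eq_of_mul_eq_mul_left (pow_pos hp.pos 2) this
    have hKc : Nat.card K = p ^ 5 := by
      have := relIndex_mul_relIndex ⊥ U K bot_le le_sup_right
      rw [relIndex_bot_left, relIndex_bot_left, hK, relIndex_sup_right, hUE, hU3, ← pow_add]
        at this
      exact this.symm
    have hEK : E.relIndex K = p := by
      have := relIndex_mul_relIndex ⊥ E K bot_le le_sup_left
      rw [relIndex_bot_left, relIndex_bot_left, hKc, hE4, show p ^ 5 = p ^ 4 * p by ring] at this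
      exact Nat.eq_of_mul_eq_mul_left (pow_pos hp.pos 4) this
    have hEFle : E.relIndex F ≤ p := by
      rw [← hEK]
      exact relIndex_le_of_le_right hFK (by rw [hEK]; exact hp.ne_zero)
    have hinf : Nat.card (E ⊓ F : Subgroup G) ≤ p ^ 2 :=
      hU2 ▸ card_le_of_le (fun x hx => h x (mem_inf.1 hx).1 (mem_inf.1 hx).2)
    have := relIndex_mul_relIndex ⊥ (E ⊓ F) F bot_le inf_le_right
    rw [relIndex_bot_left, relIndex_bot_left, inf_relIndex_right, hF4] at this
    have h4 : p ^ 4 ≤ p ^ 3 := by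
      rw [← this, pow_succ p 2]
      exact Nat.mul_le_mul hinf hEFle
    exact absurd h4 (not_le_of_gt (Nat.pow_lt_pow_right hp.one_lt (by norm_num)))
  refine eq_of_le_of_card_ge (fun x hx => ?_) (by rw [hE4, hF4])
  obtain ⟨e, he, hc⟩ := hdec x hx
  suffices hc2' : e⁻¹ * x ∈ U2 by
    have := mul_mem he (mem_inf.1 (hEU.ge hc2')).1
    rwa [mul_inv_cancel_left] at this
  by_contra hcn
  apply hf2
  refine hEU.le (mem_inf.2 ⟨hfE, hself f ?_ (ElemAbelian.pow_eq_one hE hfE)⟩)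
  refine mem_centralizer_of_sup
    (sup_zpowers_eq_of_card (p := p) h32 (by rw [hU3, hU2]; ring) hc hcn) (fun a ha => ?_) ?_
  · exact ElemAbelian.comm hE hfE (mem_inf.1 (hEU.ge ha)).1
  · exact ((show Commute f e⁻¹ from ElemAbelian.comm hE hfE (inv_mem he)).mul_right
      (show Commute f x from ElemAbelian.comm hF hfF hx)).eq

/-- A `p`-group, `p` odd, with an elementary abelian subgroup of order `p ^ 4` has a normal one. -/
theorem exists_normal_elemAbelian_four [Finite G] (hp2 : p ≠ 2) (hG : IsPGroup p G)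
    {E : Subgroup G} (hE : Cfsg.IsElementaryAbelian p E) (hE4 : Nat.card E = p ^ 4) :
    ∃ A : Subgroup G, A.Normal ∧ Cfsg.IsElementaryAbelian p A ∧ Nat.card A = p ^ 4 := by
  classical
  have hp : p.Prime := Fact.out
  obtain ⟨U, ⟨hUn, hUe⟩, hmax⟩ :=
    (Set.toFinite {U : Subgroup G | U.Normal ∧ Cfsg.IsElementaryAbelian p U}).exists_maximal
      ⟨⊥, inferInstance, ElemAbelian.bot⟩
  have hUc : IsMulCommutative U :=
    ⟨⟨fun a b => Subtype.ext (ElemAbelian.comm hUe a.2 b.2)⟩⟩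
  have hself : ∀ x ∈ centralizer (U : Set G), x ^ p = 1 → x ∈ U := by
    intro x hx hxp
    refine mem_of_maximal_normal_abelian_exponent hG 1 (by rw [pow_one]; exact hp2) U
      (fun a ha => by rw [pow_one]; exact ElemAbelian.pow_eq_one hUe ha) ?_ x hx
      (by rw [pow_one]; exact hxp)
    intro B hBn hBc hBe hUB
    refine le_antisymm (hmax ⟨hBn, ElemAbelian.of_comm_of_pow (fun a ha b hb =>
      congrArg Subtype.val (mul_comm' (⟨a, ha⟩ : B) ⟨b, hb⟩)) (fun b hb => ?_)⟩ hUB) hUB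
    simpa using hBe b hb
  obtain ⟨k, hk⟩ := ElemAbelian.exists_card_eq_pow hUe
  by_cases h4 : 4 ≤ k
  · obtain ⟨A, hAn, hAU, hA⟩ := exists_normal_le_card_eq hG U hk h4
    exact ⟨A, hAn, ElemAbelian.mono hUe hAU, hA⟩
  refine ⟨E, ?_, hE, hE4⟩
  -- `U` has order `p ^ 3`
  have hbad : ∀ {A : Subgroup G}, A ≤ U → Nat.card A * p ≤ p ^ 3 → E ≤ A → False := by
    intro A _ hA hEA
    have h := (Nat.mul_le_mul_right p (card_le_of_le hEA)).trans hA
    rw [hE4, ← pow_succ] at h
    exact absurd h (not_le_of_gt (Nat.pow_lt_pow_right hp.one_lt (by norm_num)))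
  have hk3 : k = 3 := by
    by_contra hk3
    have hk2 : k ≤ 2 := by omega
    -- `E` nearly centralises a normal subgroup of order at most `p ^ 2`
    obtain ⟨T, hTn, hTU, hTc, u, hu, hTu⟩ : ∃ T : Subgroup G, T.Normal ∧ T ≤ U ∧ Nat.card T ≤ p ∧
        ∃ u ∈ U, T ⊔ zpowers u = U ∧ (∀ g : G, ∀ t ∈ T, g * t = t * g) ∧ ∀ g : G, ⁅g, u⁆ ∈ T := by
      rcases Nat.eq_zero_or_pos k with rfl | hk1
      · have hU1 : U = ⊥ := eq_bot_of_card_eq _ (by rw [hk, pow_zero])
        refine ⟨⊥, inferInstance, bot_le, by rw [card_bot]; exact hp.one_le, 1, one_mem U, ?_,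
          fun g t ht => ?_, fun g => ?_⟩
        · rw [zpowers_one_eq_bot, hU1, bot_sup_eq]
        · rw [mem_bot.1 ht, mul_one, one_mul]
        · rw [commutatorElement_one_right]; exact one_mem _
      · obtain ⟨T, hTn, hTU, hT⟩ := exists_normal_le_card_eq hG U hk (Nat.sub_le k 1)
        have hTlt : T < U := lt_of_le_of_ne hTU fun h => by
          have h' := congrArg (fun H : Subgroup G => Nat.card H) h
          simp only [hT, hk] at h'
          have := Nat.pow_right_injective hp.two_le h'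
          omega
        obtain ⟨K, hKn, hTK, hKU, hKc, hKcomm⟩ := exists_normal_step hG hTlt
        have hKeq : K = U := eq_of_le_of_card_ge hKU (by
          rw [hKc, hT, hk, ← pow_succ', Nat.sub_add_cancel hk1])
        subst hKeq
        obtain ⟨u, hu, huT⟩ := SetLike.exists_of_lt hTlt
        refine ⟨T, hTn, hTU, ?_, u, hu, sup_zpowers_eq_of_card (p := p) hTU hKc hu huT, ?_,
          fun g => hKcomm g u hu⟩
        · rw [hT]
          exact (Nat.pow_le_pow_right hp.pos (by omega : k - 1 ≤ 1)).trans (pow_one p).le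
        · intro g t ht
          rcases eq_or_ne T ⊥ with hbot | hbot
          · rw [hbot, mem_bot] at ht
            rw [ht, mul_one, one_mul]
          · obtain ⟨L, hLn, -, hLT, hLc, hLcomm⟩ :=
              exists_normal_step hG (bot_lt_iff_ne_bot.2 hbot)
            have hLeq : L = T := eq_of_le_of_card_ge hLT (by
              rw [hLc, card_bot, mul_one, hT]
              exact (Nat.pow_le_pow_right hp.pos (by omega : k - 1 ≤ 1)).trans (pow_one p).le)
            have := hLcomm g t (hLeq.ge ht)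
            rw [mem_bot, commutatorElement_eq_one_iff_mul_comm] at this
            exact this
    obtain ⟨hTu, hTcen, hgu⟩ := hTu
    have h := card_le_of_commutator_mem (F := E) (T := T) (M := U) (u := u)
      (fun f _ => hgu f) (fun f _ t ht => hTcen f t ht)
      (fun s _ t ht => hTcen s t ht)
      (fun f hf hf1 => hself f (mem_centralizer_of_sup hTu (hTcen f)
        (commutatorElement_eq_one_iff_mul_comm.1 hf1)) (ElemAbelian.pow_eq_one hE hf))
    have h' : p ^ 4 ≤ p ^ 2 * p := hE4 ▸ h.trans (Nat.mul_le_mul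
      ((card_le_of_le inf_le_right).trans (hk ▸ Nat.pow_le_pow_right hp.pos hk2)) hTc)
    rw [← pow_succ] at h'
    exact absurd h' (not_le_of_gt (Nat.pow_lt_pow_right hp.one_lt (by norm_num)))
  subst hk3
  obtain ⟨U2, hU2n, hU2U, hU2⟩ := exists_normal_le_card_eq hG U hk (by norm_num : 2 ≤ 3)
  obtain ⟨U1, hU1n, hU1U, hU1⟩ := exists_normal_le_card_eq hG U2 hU2 (by norm_num : 1 ≤ 2)
  rw [pow_one] at hU1
  have step : ∀ {A B : Subgroup G} [A.Normal] [B.Normal], A ≤ B → Nat.card B = p * Nat.card A →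
      ∀ g : G, ∀ b ∈ B, ⁅g, b⁆ ∈ A := by
    intro A B _ _ hAB hc g b hb
    have hlt : A < B := lt_of_le_of_ne hAB fun h => by
      subst h
      have := Nat.card_pos (α := A)
      have := hp.two_le
      nlinarith
    obtain ⟨K, hKn, -, hKB, hKc, hKcomm⟩ := exists_normal_step hG hlt
    exact hKcomm g b ((eq_of_le_of_card_ge hKB (by rw [hKc, hc])).ge hb)
  have hc1 : ∀ g : G, ∀ a ∈ U1, g * a = a * g := fun g a ha =>
    commutatorElement_eq_one_iff_mul_comm.1
      (mem_bot.1 (step (A := (⊥ : Subgroup G)) bot_le (by rw [card_bot, mul_one, hU1]) g a ha))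
  have hc2 := step hU1U (by rw [hU2, hU1, sq])
  have hc3 := step hU2U (by rw [hk, hU2]; ring)
  have := hG.isNilpotent
  rw [← normalizer_eq_top_iff]
  by_contra hN
  set N := normalizer (E : Set G) with hNdef
  obtain ⟨g, hg, hgN⟩ :=
    SetLike.exists_of_lt (Group.normalizerCondition_of_isNilpotent N (lt_top_iff_ne_top.2 hN))
  set F := E.map (MulAut.conj g).toMonoidHom with hF
  have hNF : normalizer (F : Set G) = N := by
    rw [hF, ← map_equiv_normalizer_eq]
    refine eq_of_le_of_card_ge ?_ (card_map_of_injective (MulAut.conj g).injective).ge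
    rintro _ ⟨n, hn, rfl⟩
    exact (mem_normalizer_iff.1 hg n).1 hn
  have hFN : F ≤ N := by
    rintro _ ⟨e, he, rfl⟩
    exact (mem_normalizer_iff.1 hg e).1 (le_normalizer he)
  have hEN : E ≤ normalizer (F : Set G) := hNF ▸ le_normalizer
  have heq := eq_of_card_four hp2 hUe hUn hk hU2 hU1 hU1U hU2U hc1 hc2 hc3 hself hE hE4
    (ElemAbelian.map hE _) (by rw [card_map_of_injective (MulAut.conj g).injective, hE4])
    hFN hEN
  apply hgN
  rw [hNdef, mem_normalizer_iff]
  intro x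
  refine ⟨fun hx => heq.le ⟨x, hx, rfl⟩, fun hx => ?_⟩
  obtain ⟨y, hy, he⟩ := heq.ge hx
  exact (MulAut.conj g).injective he ▸ hy

end Cfsg.Agent.Lib.PLemmas
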